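import Cfsg.Agent.PERM.Pron.L1

set_option autoImplicit false

namespace CL.Pron.D1b

open MulAction

variable {G : Type} [Group G] {Ω : Type} [MulAction G Ω]

theorem top_of [Finite G] [Finite Ω] {K : Subgroup G}
    (d1 : ∀ {H : Subgroup G} {O : Set Ω}, Pn K H → Orb H O → O.ncard ≤ Nat.card Ω → ¬ O ⊆ Fx K Ω → df K O = 1 →
      3 ≤ O.ncard ∧ (O ∩ Fx K Ω).Nonempty ∧ Two H O)
    (hP : Pn K ⊤) (ih : IH K (Nat.card Ω))
    (hO : Orb (⊤ : Subgroup G) (Set.univ : Set Ω)) (hF : ¬ (Set.univ : Set Ω) ⊆ Fx K Ω)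
    (hd : df K (Set.univ : Set Ω) ≤ 0) : Top K Ω := by
  obtain ⟨c, -, hc⟩ := Set.not_subset.1 hF
  have hd' : (Nat.card Ω : ℤ) ≤ 2 * (Fx K Ω).ncard := by
    rw [df, Set.univ_inter, Set.ncard_univ] at hd
    omega
  have : Nonempty Ω := ⟨c⟩
  have p0 := Nat.card_pos (α := Ω)
  obtain ⟨a, ha⟩ : (Fx K Ω).Nonempty := (Set.ncard_pos (Set.toFinite _)).1 (by omega)
  have ac : a ∈ cl K ⊤ Set.univ a := ⟨trivial, fun _ _ h => h⟩
  have h1 : ∀ x ∈ cl K ⊤ Set.univ a, x = a := fun x hx => by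
    by_contra n
    have h2 : 2 ≤ (cl K ⊤ Set.univ a).ncard := (Set.one_lt_ncard (Set.toFinite _)).2 ⟨x, hx, a, ac, n⟩
    have := l1 ih hP hO (Set.ncard_univ Ω).le hF trivial ha h2
    omega
  set H := ⊤ ⊓ stabilizer G a with hH
  have mH : ∀ {g : G}, g ∈ H ↔ g • a = a := ⟨fun h => h.2, fun h => ⟨trivial, h⟩⟩
  have pH : Pn K H := hP.mono (fun k hk => mH.2 (ha k hk)) le_top
  have nF : ∀ x, x ≠ a → ¬ orb H x ⊆ Fx K Ω := fun x n h => n (h1 x (orb_cl hP ha trivial h))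
  have inv : ∀ h ∈ H, ∀ x, x ≠ a → h • x ≠ a := fun h hh x n e =>
    n (MulAction.injective h (e.trans (mH.1 hh).symm))
  have cU : ({a}ᶜ : Set Ω).ncard + 1 = Nat.card Ω := by
    have := Set.ncard_add_ncard_compl ({a} : Set Ω)
    rw [Set.ncard_singleton] at this
    omega
  have dU : df K ({a}ᶜ : Set Ω) = df K (Set.univ : Set Ω) + 1 := by
    rw [Set.compl_eq_univ_sdiff, df_diff K (Set.subset_univ _), df_sub (Set.singleton_subset_iff.2 ha),
      Set.ncard_singleton]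
    simp
  have ca : c ≠ a := fun e => hc (e ▸ ha)
  have sub : ∀ x, x ≠ a → orb H x ⊆ {a}ᶜ := by
    rintro x n _ ⟨h, hh, rfl⟩
    exact inv h hh x n
  have d0 : ∀ x, x ≠ a → 1 ≤ df K (orb H x) := fun x n =>
    ih Ω H _ pH (orb_orb H x) ((Set.ncard_le_ncard (sub x n)).trans_lt (by omega)) (nF x n)
  have oU : Orb H ({a}ᶜ : Set Ω) := fun x hx => by
    refine (sub x hx).antisymm (Set.sdiff_eq_empty.1 (by_contra fun ne => ?_))
    have := (df_inv ih pH (U := {a}ᶜ \ orb H x) (fun h hh y hy => ⟨inv h hh y hy.1, fun e => hy.2 (by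
      simpa using smul_mem_orb (inv_mem hh) e)⟩) ((Set.ncard_le_ncard Set.sdiff_subset).trans_lt (by omega))
      fun y hy => nF y hy.1).2 (Set.nonempty_iff_ne_empty.2 ne)
    rw [df_diff K (sub x hx)] at this
    have := d0 x hx
    omega
  have d2 := d0 c ca
  rw [oU c ca] at d2
  obtain ⟨t1, -, t2⟩ := d1 pH oU (by omega) (oU c ca ▸ nF c ca) (by omega)
  have half : Nat.card Ω = 2 * (Fx K Ω).ncard := by
    have : df K (Set.univ : Set Ω) = 0 := by omega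
    rw [df, Set.univ_inter, Set.ncard_univ] at this
    omega
  have t3 : T3 G Ω := fun x y z x' y' z' h h' => by
    obtain ⟨g, -, e⟩ : a ∈ orb ⊤ x := (hO x trivial).ge trivial
    obtain ⟨g', -, e'⟩ : a ∈ orb ⊤ x' := (hO x' trivial).ge trivial
    have k : ∀ {g : G} {x y : Ω}, g • x = a → x ≠ y → g • y ∈ ({a}ᶜ : Set Ω) := fun e n q =>
      n (MulAction.injective _ (e.trans (Eq.symm q)))
    obtain ⟨s, hs, e1, e2⟩ := t2 _ (k e h.1) _ (k e h.2.1) _ (k e' h'.1) _ (k e' h'.2.1)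
      (fun q => h.2.2 (MulAction.injective _ q)) fun q => h'.2.2 (MulAction.injective _ q)
    refine ⟨g'⁻¹ * s * g, ?_, ?_, ?_⟩ <;> rw [mul_smul, mul_smul, inv_smul_eq_iff]
    exacts [by rw [e, mH.1 hs, e'], e1, e2]
  refine ⟨hP, ih, half, t3, by_contra fun n => ?_⟩
  have f2 : (Fx K Ω).ncard = 2 := by omega
  have f3 : (Fx K Ω)ᶜ.ncard = 2 := by
    have := Set.ncard_add_ncard_compl (Fx K Ω)
    omega
  obtain ⟨x, y, xy, e⟩ := Set.ncard_eq_two.1 f2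
  obtain ⟨u, v, uv, e'⟩ := Set.ncard_eq_two.1 f3
  have mu : u ∈ (Fx K Ω)ᶜ := e' ▸ by simp
  have mv : v ∈ (Fx K Ω)ᶜ := e' ▸ by simp
  have mx : x ∈ Fx K Ω := e ▸ by simp
  have my : y ∈ Fx K Ω := e ▸ by simp
  obtain ⟨g, e1, e2, -⟩ := t3 u v x x y u ⟨uv, fun q => mu (q ▸ mx), fun q => mv (q ▸ mx)⟩
    ⟨xy, fun q => mu (q ▸ mx), fun q => mu (q ▸ my)⟩
  refine mu (hP.lemN (g := g) trivial fun k hk => ?_)
  have : k • u ∈ (Fx K Ω)ᶜ := fun q => mu (by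
    have := q k⁻¹ (inv_mem hk)
    rw [inv_smul_smul] at this
    rwa [this])
  rw [e'] at this
  rcases this with q | q <;> rw [q]
  exacts [e1 ▸ mx, e2 ▸ my]

end CL.Pron.D1b
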