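import Cfsg.Agent.PERM.Pron.Base

set_option autoImplicit false

namespace CL.Pron.SqsB

/-- the clique count (second statement of `Pron/Sqs`) -/
theorem clq {Ω : Type} [Finite Ω] {F : Set Ω} (half : Nat.card Ω = 2 * F.ncard)
    (three : 3 ≤ F.ncard)
    {a b : Ω} (ha : a ∈ F) (hb : b ∈ F) (hab : a ≠ b) (R : Ω → Ω → Prop) {k : ℕ} (hk : 3 ≤ k)
    (hO : ∀ x y, R x y → x ≠ a ∧ x ≠ b ∧ x ≠ y) (sy : ∀ x y, R x y → R y x)
    (tr : ∀ x y z, R x y → R y z → x ≠ z → R x z)
    (val : ∀ x, x ≠ a → x ≠ b → {y | R x y}.ncard = k)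
    (vF : ∀ x ∈ F, x ≠ a → x ≠ b → 2 * ({y | R x y} ∩ F).ncard + 1 = k) : False := by
  classical
  set m := (k + 1) / 2 with hm
  set F' : Set Ω := F \ {a, b} with hF'
  set S1 : Set Ω := {y | y ∉ F ∧ ∃ x ∈ F', R x y} with hS1
  have memF' : ∀ x, x ∈ F' ↔ x ∈ F ∧ x ≠ a ∧ x ≠ b := by
    intro x; simp [hF', not_or]
  have cF' : F'.ncard + 2 = F.ncard := by
    have h1 : ({a, b} : Set Ω) ⊆ F := by
      rintro x (rfl | rfl)
      · exact ha
      · exact hb
    have h2 := Set.ncard_diff_add_ncard_of_subset h1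
    rwa [Set.ncard_pair hab] at h2
  have h1 : ∀ x ∈ F', ({y | R x y} ∩ S1).ncard = m := by
    intro x hx
    obtain ⟨hxF, hxa, hxb⟩ := (memF' x).1 hx
    have e : {y | R x y} ∩ S1 = {y | R x y} \ F := by
      ext y
      constructor
      · rintro ⟨h, h', -⟩; exact ⟨h, h'⟩
      · rintro ⟨h, h'⟩; exact ⟨h, h', x, hx, h⟩
    have c := Set.ncard_inter_add_ncard_diff_eq_ncard {y | R x y} F
    have := val x hxa hxb
    have := vF x hxF hxa hxb
    rw [e]; omega
  have h2 : ∀ y ∈ S1, ({x | R x y} ∩ F').ncard = m := by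
    rintro y ⟨hyF, x, hx, hxy⟩
    obtain ⟨hxF, hxa, hxb⟩ := (memF' x).1 hx
    have e : {x | R x y} ∩ F' = insert x ({z | R x z} ∩ F) := by
      ext z
      constructor
      · rintro ⟨h, h'⟩
        by_cases hz : z = x
        · exact Or.inl hz
        · exact Or.inr ⟨tr x y z hxy (sy _ _ h) (Ne.symm hz), ((memF' z).1 h').1⟩
      · rintro (rfl | ⟨h, h'⟩)
        · exact ⟨hxy, hx⟩
        · have hz := hO z x (sy _ _ h)
          refine ⟨tr z x y (sy _ _ h) hxy ?_, (memF' z).2 ⟨h', hz.1, hz.2.1⟩⟩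
          rintro rfl; exact hyF h'
    have hn : x ∉ {z | R x z} ∩ F := fun h => (hO x x h.1).2.2 rfl
    have := vF x hxF hxa hxb
    rw [e, Set.ncard_insert_of_notMem hn]; omega
  have dc : F'.ncard * m = S1.ncard * m := by
    have := Finset.card_mul_eq_card_mul (s := F'.toFinite.toFinset) (t := S1.toFinite.toFinset)
      (m := m) (n := m) R
      (fun x hx => by
        rw [← h1 x (by simpa using hx), Set.ncard_eq_toFinset_card _ (Set.toFinite _)]
        congr 1; ext y; simp [and_comm])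
      (fun y hy => by
        rw [← h2 y (by simpa using hy), Set.ncard_eq_toFinset_card _ (Set.toFinite _)]
        congr 1; ext x; simp [and_comm])
    rwa [← Set.ncard_eq_toFinset_card, ← Set.ncard_eq_toFinset_card] at this
  have eq1 : F'.ncard = S1.ncard := Nat.eq_of_mul_eq_mul_right (by omega) dc
  have cS : (Fᶜ \ S1).ncard = 2 := by
    have c1 := Set.ncard_add_ncard_compl F
    have c2 := Set.ncard_diff_add_ncard_of_subset (s := S1) (t := Fᶜ) (fun y hy => hy.1)
    omega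
  obtain ⟨y, hyF, hyS⟩ : (Fᶜ \ S1).Nonempty := Set.nonempty_of_ncard_ne_zero (by omega)
  have hya : y ≠ a := by rintro rfl; exact hyF ha
  have hyb : y ≠ b := by rintro rfl; exact hyF hb
  have sub : {z | R y z} ⊆ Fᶜ \ S1 := by
    intro z hz
    have hz' := hO z y (sy _ _ hz)
    refine ⟨fun hzF => hyS ⟨hyF, z, (memF' z).2 ⟨hzF, hz'.1, hz'.2.1⟩, sy _ _ hz⟩, ?_⟩
    rintro ⟨-, x, hx, hxz⟩
    refine hyS ⟨hyF, x, hx, tr x z y hxz (sy _ _ hz) ?_⟩
    rintro rfl; exact hyF ((memF' _).1 hx).1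
  have := Set.ncard_le_ncard sub
  have := val y hya hyb
  omega

end CL.Pron.SqsB
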